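import Mathlib.Algebra.Homology.HomotopyCategory.KInjective
import Mathlib.Algebra.Homology.HomologySequenceLemmas
import Mathlib.Algebra.Homology.HomologicalComplexAbelian
import Mathlib.CategoryTheory.Preadditive.Injective.Basic

/-!
Short exact sequences of termwise injective K-injective complexes, and the five lemma for
quasi-isomorphisms of short exact sequences.
-/

universe v u

set_option backward.isDefEq.respectTransparency false

open CategoryTheory CategoryTheory.Limits HomologicalComplex CochainComplex.HomComplex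

namespace GrothLib.FilKInj19

variable {A : Type u} [Category.{v} A] [Abelian A]

theorem injective_of_splitting {T : ShortComplex A} (s : T.Splitting) (h : Injective T.X₂) :
    Injective T.X₁ ∧ Injective T.X₃ :=
  ⟨{ factors := fun {X Y} g f _ => by
      obtain ⟨k, hk⟩ := Injective.factors (g ≫ T.f) f
      exact ⟨k ≫ s.r, by rw [← Category.assoc, hk, Category.assoc, s.f_r, Category.comp_id]⟩ },
   { factors := fun {X Y} g f _ => by
      obtain ⟨k, hk⟩ := Injective.factors (g ≫ s.s) f
      exact ⟨k ≫ T.g, by rw [← Category.assoc, hk, Category.assoc, s.s_g, Category.comp_id]⟩ }⟩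

/-- A short exact sequence with injective first term splits. -/
noncomputable def splittingOfInjective {T : ShortComplex A} (hT : T.ShortExact) (h : Injective T.X₁) :
    T.Splitting :=
  haveI := hT.mono_f
  haveI := hT.epi_g
  ShortComplex.Splitting.ofExactOfRetraction T hT.exact (Injective.factorThru (𝟙 T.X₁) T.f)
    (Injective.comp_factorThru _ _) inferInstance

variable {S : ShortComplex (CochainComplex A ℤ)}

/-- The first term of a degreewise split sequence of K-injectives is K-injective. -/
theorem isKInjective_X₁ (σ : ∀ n, (S.map (eval A (ComplexShape.up ℤ) n)).Splitting)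
    [S.X₂.IsKInjective] [S.X₃.IsKInjective] : S.X₁.IsKInjective where
  nonempty_homotopy_zero {K} f hK := by
    obtain ⟨z, hz⟩ := Cochain.equivHomotopy _ _
      (CochainComplex.IsKInjective.homotopyZero (f ≫ S.f) hK)
    simp only [Cochain.ofHom_zero, add_zero] at hz
    have hcoc : δ (-1) 0 (z.comp (Cochain.ofHom S.g) (add_zero _)) = 0 := by
      rw [δ_comp_ofHom, ← hz, ← Cochain.ofHom_comp, Category.assoc, S.zero, comp_zero,
        Cochain.ofHom_zero]
    obtain ⟨c, hc⟩ := CochainComplex.IsKInjective.eq_δ_of_cocycle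
      (Cocycle.mk (z.comp (Cochain.ofHom S.g) (add_zero _)) 0 (by omega) hcoc) hK (-2) (by omega)
    let c' : Cochain K S.X₂ (-2) := Cochain.mk fun p q hpq => c.v p q hpq ≫ (σ q).s
    have hc' : c'.comp (Cochain.ofHom S.g) (add_zero _) = c := by
      ext p q hpq
      rw [Cochain.comp_zero_cochain_v, Cochain.ofHom_v, Cochain.mk_v, Category.assoc]
      exact (congrArg (c.v p q hpq ≫ ·) (σ q).s_g).trans (Category.comp_id _)
    let z' : Cochain K S.X₂ (-1) := z - δ (-2) (-1) c'
    have hz' : z'.comp (Cochain.ofHom S.g) (add_zero _) = 0 := by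
      rw [Cochain.sub_comp, ← δ_comp_ofHom, hc', hc, Cocycle.mk_coe, sub_self]
    let w : Cochain K S.X₁ (-1) := Cochain.mk fun p q hpq => z'.v p q hpq ≫ (σ q).r
    have hw : w.comp (Cochain.ofHom S.f) (add_zero _) = z' := by
      ext p q hpq
      have h0 : z'.v p q hpq ≫ S.g.f q = 0 := by
        have := Cochain.congr_v hz' p q hpq
        simpa using this
      rw [Cochain.comp_zero_cochain_v, Cochain.ofHom_v, Cochain.mk_v, Category.assoc]
      refine (congrArg (z'.v p q hpq ≫ ·)
        (eq_sub_of_add_eq (σ q).id : (σ q).r ≫ S.f.f q = 𝟙 _ - S.g.f q ≫ (σ q).s)).trans ?_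
      rw [Preadditive.comp_sub, ← Category.assoc, h0, zero_comp, sub_zero]
      exact Category.comp_id _
    have : Mono S.f := @HomologicalComplex.mono_of_mono_f _ _ _ _ _ _ _ S.f fun n =>
      SplitMono.mono ⟨(σ n).r, (σ n).f_r⟩
    refine ⟨(Cochain.equivHomotopy f 0).symm ⟨w, ?_⟩⟩
    rw [Cochain.ofHom_zero, add_zero]
    ext p
    rw [← cancel_mono (S.f.f p)]
    have h1 : (δ (-1) 0 w).comp (Cochain.ofHom S.f) (add_zero _) = Cochain.ofHom (f ≫ S.f) := by
      rw [← δ_comp_ofHom, hw, hz]
      simp [z', δ_δ]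
    have := Cochain.congr_v h1 p p (add_zero p)
    simpa using this.symm

/-- The last term of a degreewise split sequence of K-injectives is K-injective. -/
theorem isKInjective_X₃ (σ : ∀ n, (S.map (eval A (ComplexShape.up ℤ) n)).Splitting)
    [S.X₁.IsKInjective] [S.X₂.IsKInjective] : S.X₃.IsKInjective where
  nonempty_homotopy_zero {K} f hK := by
    let f' : Cochain K S.X₂ 0 := Cochain.ofHoms fun p => f.f p ≫ (σ p).s
    have hf' : f'.comp (Cochain.ofHom S.g) (add_zero _) = Cochain.ofHom f := by
      ext p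
      rw [Cochain.comp_zero_cochain_v, Cochain.ofHom_v, Cochain.ofHoms_v, Cochain.ofHom_v,
        Category.assoc]
      exact (congrArg (f.f p ≫ ·) (σ p).s_g).trans (Category.comp_id _)
    let a : Cochain K S.X₁ 1 := Cochain.mk fun p q hpq => (δ 0 1 f').v p q hpq ≫ (σ q).r
    have hdg : (δ 0 1 f').comp (Cochain.ofHom S.g) (add_zero _) = 0 := by
      rw [← δ_comp_ofHom, hf', δ_ofHom]
    have ha : a.comp (Cochain.ofHom S.f) (add_zero _) = δ 0 1 f' := by
      ext p q hpq
      have h0 : (δ 0 1 f').v p q hpq ≫ S.g.f q = 0 := by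
        have := Cochain.congr_v hdg p q hpq
        simpa using this
      rw [Cochain.comp_zero_cochain_v, Cochain.ofHom_v, Cochain.mk_v, Category.assoc]
      refine (congrArg ((δ 0 1 f').v p q hpq ≫ ·)
        (eq_sub_of_add_eq (σ q).id : (σ q).r ≫ S.f.f q = 𝟙 _ - S.g.f q ≫ (σ q).s)).trans ?_
      rw [Preadditive.comp_sub, ← Category.assoc, h0, zero_comp, sub_zero]
      exact Category.comp_id _
    have hmono : Mono S.f := @HomologicalComplex.mono_of_mono_f _ _ _ _ _ _ _ S.f fun n =>
      SplitMono.mono ⟨(σ n).r, (σ n).f_r⟩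
    have hda : δ 1 2 a = 0 := by
      ext p q hpq
      rw [← cancel_mono (S.f.f q)]
      have h1 : (δ 1 2 a).comp (Cochain.ofHom S.f) (add_zero _) = 0 := by
        rw [← δ_comp_ofHom, ha, δ_δ]
      have := Cochain.congr_v h1 p q hpq
      simpa using this
    obtain ⟨b, hb⟩ := CochainComplex.IsKInjective.eq_δ_of_cocycle
      (Cocycle.mk a 2 (by omega) hda) hK 0 (by omega)
    let g : Cocycle K S.X₂ 0 := Cocycle.mk (f' - b.comp (Cochain.ofHom S.f) (add_zero _)) 1 (by omega)
      (by rw [δ_sub, δ_comp_ofHom, hb, Cocycle.mk_coe, ha, sub_self])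
    have hg : g.homOf ≫ S.g = f := by
      apply Cochain.ofHom_injective
      rw [Cochain.ofHom_comp, Cocycle.cochain_ofHom_homOf_eq_coe]
      simp only [g, Cocycle.mk_coe, Cochain.sub_comp, hf']
      rw [Cochain.comp_assoc_of_second_is_zero_cochain, ← Cochain.ofHom_comp, S.zero,
        Cochain.ofHom_zero, Cochain.comp_zero, sub_zero]
    exact ⟨(Homotopy.ofEq hg.symm).trans
      (((CochainComplex.IsKInjective.homotopyZero g.homOf hK).compRight S.g).trans
        (Homotopy.ofEq zero_comp))⟩

/-- The five lemma for the first terms. -/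
theorem quasiIso_τ₁ {S₁ S₂ : ShortComplex (CochainComplex A ℤ)} (φ : S₁ ⟶ S₂)
    (hS₁ : S₁.ShortExact) (hS₂ : S₂.ShortExact) (h₂ : QuasiIso φ.τ₂) (h₃ : QuasiIso φ.τ₃) :
    QuasiIso φ.τ₁ := by
  rw [quasiIso_iff]
  intro j
  rw [quasiIsoAt_iff_isIso_homologyMap]
  have hij : (ComplexShape.up ℤ).Rel (j - 1) j := by simp
  let m := HomologySequence.mapComposableArrows₅ φ hS₁ hS₂ (j - 1) j hij
  have e₁ := HomologySequence.composableArrows₅_exact hS₁ (j - 1) j hij
  have e₂ := HomologySequence.composableArrows₅_exact hS₂ (j - 1) j hij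
  have hm : Mono (homologyMap φ.τ₁ j) :=
    Abelian.mono_of_epi_of_mono_of_mono ((ComposableArrows.δ₀Functor ⋙
        ComposableArrows.δlastFunctor).map m) e₁.δ₀.δlast e₂.δ₀.δlast
      (inferInstanceAs (Epi (homologyMap φ.τ₂ (j - 1))))
      (inferInstanceAs (Mono (homologyMap φ.τ₃ (j - 1))))
      (inferInstanceAs (Mono (homologyMap φ.τ₂ j)))
  have he : Epi (homologyMap φ.τ₁ j) :=
    Abelian.epi_of_epi_of_epi_of_mono ((ComposableArrows.δ₀Functor ⋙
        ComposableArrows.δ₀Functor).map m) e₁.δ₀.δ₀ e₂.δ₀.δ₀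
      (inferInstanceAs (Epi (homologyMap φ.τ₃ (j - 1))))
      (inferInstanceAs (Epi (homologyMap φ.τ₂ j)))
      (inferInstanceAs (Mono (homologyMap φ.τ₃ j)))
  exact isIso_of_mono_of_epi _

end GrothLib.FilKInj19
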