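import Groth.Agent.Lib.FilKInj19.Basic
import Groth.Agent.Lib.KInj.Resolution
import Groth.Agent.Lib.HoCat.KInjective
import Groth.Agent.Lib.RlimMod25.InjTower
import Mathlib.CategoryTheory.Abelian.GrothendieckAxioms.FunctorCategory
import Mathlib.CategoryTheory.Abelian.GrothendieckCategory.Basic
import Mathlib.CategoryTheory.Generator.Presheaf
import Mathlib.CategoryTheory.Limits.Shapes.Countable
import Mathlib.Algebra.Homology.ShortComplex.ExactFunctor

/-!
Resolving a diagram of complexes indexed by `(WithTop ℤ)ᵒᵖ` by a diagram of K-injective complexes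
with termwise split epimorphic transition maps.
-/

universe v u

set_option backward.isDefEq.respectTransparency false

open CategoryTheory CategoryTheory.Limits Opposite HomologicalComplex

namespace GrothLib.FilKInj19

variable {A : Type u} [Category.{v} A] [Abelian A] [IsGrothendieckAbelian.{v} A]

/-- The index category: `x ⟶ y` iff `y ≤ x`. -/
abbrev Ix : Type := (WithTop ℤ)ᵒᵖ

instance : HasCoproducts.{0} A := fun J =>
  hasColimitsOfShape_of_equivalence (Discrete.equivalence Equiv.ulift.{v} : Discrete (ULift.{v} J) ≌ _)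

instance (a b : Ix) : HasCoproductsOfShape (a ⟶ b) A := inferInstance

instance isGrothendieckAbelian_diagram : IsGrothendieckAbelian.{v} (Ix ⥤ A) where
  locallySmall := inferInstance
  hasFilteredColimitsOfSize := inferInstance
  ab5OfSize := ⟨fun J _ _ => inferInstance⟩
  hasSeparator := inferInstanceAs (HasSeparator ((WithTop ℤ)ᵒᵖ ⥤ A))

/-- A diagram of complexes as a complex of diagrams. -/
noncomputable def flipCx (F : Ix ⥤ CochainComplex A ℤ) : CochainComplex (Ix ⥤ A) ℤ where
  X n := F ⋙ eval A (ComplexShape.up ℤ) n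
  d i j := { app := fun x => (F.obj x).d i j, naturality := fun x y f => (F.map f).comm i j }
  shape i j h := NatTrans.ext (funext fun x => (F.obj x).shape i j h)
  d_comp_d' i j k _ _ := NatTrans.ext (funext fun x => (F.obj x).d_comp_d i j k)

/-- Evaluation of a complex of diagrams. -/
noncomputable abbrev ev (I : CochainComplex (Ix ⥤ A) ℤ) (x : Ix) : CochainComplex A ℤ :=
  (((evaluation Ix A).obj x).mapHomologicalComplex (ComplexShape.up ℤ)).obj I

/-- The transition maps of a complex of diagrams. -/
noncomputable def evMap (I : CochainComplex (Ix ⥤ A) ℤ) {x y : Ix} (f : x ⟶ y) : ev I x ⟶ ev I y where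
  f n := (I.X n).map f
  comm' i j _ := (I.d i j).naturality f

lemma evMap_comp (I : CochainComplex (Ix ⥤ A) ℤ) {x y z : Ix} (f : x ⟶ y) (g : y ⟶ z) :
    evMap I (f ≫ g) = evMap I f ≫ evMap I g := by
  ext n; exact (I.X n).map_comp f g

/-- `evMap` of the component at `x` of a map to a complex of diagrams. -/
noncomputable def evHom (F : Ix ⥤ CochainComplex A ℤ) {I : CochainComplex (Ix ⥤ A) ℤ}
    (φ : flipCx F ⟶ I) (x : Ix) : F.obj x ⟶ ev I x where
  f n := (φ.f n).app x
  comm' i j _ := NatTrans.congr_app (φ.comm i j) x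

lemma evHom_naturality (F : Ix ⥤ CochainComplex A ℤ) {I : CochainComplex (Ix ⥤ A) ℤ}
    (φ : flipCx F ⟶ I) {x y : Ix} (f : x ⟶ y) :
    F.map f ≫ evHom F φ y = evHom F φ x ≫ evMap I f := by
  ext n; exact (φ.f n).naturality f

theorem isKInjective_ev (I : CochainComplex (Ix ⥤ A) ℤ) (h : I.IsKInjective) (x : Ix) :
    (ev I x).IsKInjective := by
  haveI : (evaluationLeftAdjoint A x).IsLeftAdjoint := (evaluationAdjunctionRight A x).isLeftAdjoint
  haveI : (evaluationLeftAdjoint A x).PreservesMonomorphisms :=
    RlimMod25.preservesMono_evaluationLeftAdjoint x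
  haveI : PreservesFiniteColimits (evaluationLeftAdjoint A x) := inferInstance
  haveI : (evaluationLeftAdjoint A x).Additive := by
    haveI := preservesBinaryBiproducts_of_preservesBinaryCoproducts (evaluationLeftAdjoint A x)
    exact Functor.additive_of_preservesBinaryBiproducts _
  haveI : (evaluationLeftAdjoint A x).PreservesHomology :=
    Functor.preservesHomology_of_preservesMonos_and_cokernels _
  haveI : PreservesFiniteLimits (evaluationLeftAdjoint A x) :=
    Functor.preservesFiniteLimits_of_preservesHomology _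
  exact HoCat.isKInjective_map_of_rightAdjoint _ _ (evaluationAdjunctionRight A x) I h

variable (F : Ix ⥤ CochainComplex A ℤ)

/-- **A diagram resolution.** -/
theorem exists_diagram :
    ∃ (I : CochainComplex (Ix ⥤ A) ℤ) (φ : flipCx F ⟶ I),
      (∀ x, QuasiIso (evHom F φ x)) ∧ (∀ x, (ev I x).IsKInjective) ∧
      (∀ x n, Injective ((ev I x).X n)) ∧
      ∀ {x y : Ix} (f : x ⟶ y) (n : ℤ),
        ∃ s : (ev I y).X n ⟶ (ev I x).X n, s ≫ (evMap I f).f n = 𝟙 _ := by
  obtain ⟨I, φ, hφ, hI, hinj⟩ := KInj.exists_kInjective_resolution (Ix ⥤ A) (flipCx F)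
  refine ⟨I, φ, fun x => ?_, isKInjective_ev I hI, fun x n => ?_, fun {x y} f n => ?_⟩
  · exact (inferInstance :
      QuasiIso ((((evaluation Ix A).obj x).mapHomologicalComplex (ComplexShape.up ℤ)).map φ))
  · haveI := hinj n
    exact RlimMod25.injective_eval (I.X n) x
  · haveI := hinj n
    exact RlimMod25.exists_section (I.X n) f

end GrothLib.FilKInj19
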