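import Groth.Prelude.Def_SpSeq
import Groth.Agent.Lib.FilKInj19.Diagram

/-!
Filtered complexes embed into filtered K-injective complexes.
-/

universe v u

set_option backward.isDefEq.respectTransparency false

open CategoryTheory CategoryTheory.Limits Opposite HomologicalComplex

namespace GrothLib.FilKInj19

variable {A : Type u} [Category.{v} A] [Abelian A]

/-- The filtration extended by `⊤ ↦ ⊥`. -/
noncomputable def filTop (K : SpSeq.FilCx A) : WithTop ℤ → Subobject K.obj
  | ⊤ => ⊥
  | (p : ℤ) => K.fil p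

lemma filTop_anti (K : SpSeq.FilCx A) : Antitone (filTop K) := by
  intro x y h
  cases y with
  | top => exact bot_le
  | coe q =>
    cases x with
    | top => simp at h
    | coe p => exact K.anti (WithTop.coe_le_coe.1 h)

/-- The diagram of the quotients. -/
noncomputable def quotDiagram (K : SpSeq.FilCx A) : Ix ⥤ CochainComplex A ℤ where
  obj x := cokernel (filTop K x.unop).arrow
  map {x y} f := cokernel.desc _ (cokernel.π _) (by
    rw [← Subobject.ofLE_arrow (filTop_anti K (leOfHom f.unop)), Category.assoc, cokernel.condition,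
      comp_zero])
  map_id x := coequalizer.hom_ext (by simp)
  map_comp f g := coequalizer.hom_ext (by simp)

/-- The top vertex. -/
abbrev top : Ix := op ⊤

/-- The vertex of an integer. -/
abbrev vert (p : ℤ) : Ix := op (p : WithTop ℤ)

/-- The map to a vertex. -/
def toVert (p : ℤ) : top ⟶ vert p := (homOfLE le_top).op

/-- The maps between the vertices. -/
def toVertLE {p q : ℤ} (h : p ≤ q) : vert q ⟶ vert p := (homOfLE (WithTop.coe_le_coe.2 h)).op

lemma toVert_comp {p q : ℤ} (h : p ≤ q) : toVert q ≫ toVertLE h = toVert p := Subsingleton.elim _ _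

variable [IsGrothendieckAbelian.{v} A] (I : CochainComplex (Ix ⥤ A) ℤ)

/-- The projections out of the total complex. -/
noncomputable abbrev π (p : ℤ) : ev I top ⟶ ev I (vert p) := evMap I (toVert p)

lemma π_comp {p q : ℤ} (h : p ≤ q) : π I q ≫ evMap I (toVertLE h) = π I p := by
  rw [← evMap_comp, toVert_comp]

/-- The filtered complex of a diagram. -/
noncomputable def filCx : SpSeq.FilCx A where
  obj := ev I top
  fil p := Subobject.mk (kernel.ι (π I p))
  anti p q h := Subobject.mk_le_mk_of_comm (kernel.lift _ (kernel.ι _)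
    (by rw [← π_comp I h, kernel.condition_assoc, zero_comp])) (kernel.lift_ι _ _ _)

lemma fil_arrow_π (p : ℤ) : ((filCx I).fil p).arrow ≫ π I p = 0 := by
  change (Subobject.mk (kernel.ι (π I p))).arrow ≫ π I p = 0
  rw [← Subobject.underlyingIso_hom_comp_eq_mk, Category.assoc, kernel.condition, comp_zero]

/-- The defining sequence of a step. -/
noncomputable def seq (p : ℤ) : ShortComplex (CochainComplex A ℤ) :=
  ShortComplex.mk ((filCx I).fil p).arrow (π I p) (fil_arrow_π I p)

section

variable (hI : ∀ x, (ev I x).IsKInjective) (hinj : ∀ x n, Injective ((ev I x).X n))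
  (hs : ∀ {x y : Ix} (f : x ⟶ y) (n : ℤ),
    ∃ s : (ev I y).X n ⟶ (ev I x).X n, s ≫ (evMap I f).f n = 𝟙 _)

include hs in
lemma epi_π (p : ℤ) : Epi (π I p) :=
  @HomologicalComplex.epi_of_epi_f _ _ _ _ _ _ _ (π I p) fun n => by
    obtain ⟨s, hs⟩ := hs (toVert p) n
    exact SplitEpi.epi ⟨s, hs⟩

include hs in
lemma shortExact_seq (p : ℤ) : (seq I p).ShortExact := by
  haveI := epi_π I hs p
  let e : ShortComplex.mk (kernel.ι (π I p)) (π I p) (kernel.condition _) ≅ seq I p :=
    ShortComplex.isoMk (Subobject.underlyingIso _).symm (Iso.refl _) (Iso.refl _)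
      (by simp [seq, filCx]) (by simp [seq])
  exact ShortComplex.shortExact_of_iso e { exact := ShortComplex.exact_kernel _ }

include hs in
/-- The quotient by a step. -/
lemma exists_quotIso (p : ℤ) : ∃ e : (filCx I).quot p ≅ ev I (vert p),
    cokernel.π ((filCx I).fil p).arrow ≫ e.hom = π I p := by
  haveI := (shortExact_seq I hs p).epi_g
  exact ⟨(cokernelIsCokernel _).coconePointUniqueUpToIso (shortExact_seq I hs p).exact.gIsCokernel,
    (cokernelIsCokernel _).comp_coconePointUniqueUpToIso_hom
      (shortExact_seq I hs p).exact.gIsCokernel WalkingParallelPair.one⟩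

include hs hinj in
/-- The degreewise splittings. -/
lemma exists_splitting (p n : ℤ) :
    Nonempty ((seq I p).map (eval A (ComplexShape.up ℤ) n)).Splitting := by
  obtain ⟨s, hs'⟩ := hs (toVert p) n
  have h := (shortExact_seq I hs p).map_of_exact (eval A (ComplexShape.up ℤ) n)
  haveI := h.mono_f
  exact ⟨ShortComplex.Splitting.ofExactOfSection _ h.exact s hs' inferInstance⟩

include hs hinj in
lemma injective_step (n p : ℤ) : Injective (((filCx I).step p).X n) :=
  (injective_of_splitting (exists_splitting I hinj hs p n).some (hinj top n)).1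

include hs hinj in
lemma injective_XFil_step (n p : ℤ) : Injective (((filCx I).XFil n).step p) := by
  haveI := (shortExact_seq I hs p).mono_f
  haveI : Mono (((filCx I).fil p).arrow.f n) :=
    inferInstanceAs (Mono ((eval A (ComplexShape.up ℤ) n).map ((filCx I).fil p).arrow))
  exact Injective.of_iso (Subobject.underlyingIso (((filCx I).fil p).arrow.f n)).symm
    (injective_step I hinj hs n p)

include hs hI hinj in
lemma isKInjective_step (p : ℤ) : CochainComplex.IsKInjective ((filCx I).step p) :=
  haveI : (seq I p).X₂.IsKInjective := hI top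
  haveI : (seq I p).X₃.IsKInjective := hI (vert p)
  isKInjective_X₁ (S := seq I p) fun n => (exists_splitting I hinj hs p n).some

include hs hI in
lemma isKInjective_quot (p : ℤ) : CochainComplex.IsKInjective ((filCx I).quot p) := by
  obtain ⟨e, -⟩ := exists_quotIso I hs p
  haveI := hI (vert p)
  exact CochainComplex.isKInjective_of_iso e.symm

include hs hinj in
lemma injective_XFil_quot (n p : ℤ) : Injective (((filCx I).XFil n).quot p) :=
  (injective_of_splitting (splittingOfInjective
    (T := ShortComplex.mk (((filCx I).XFil n).fil p).arrow (cokernel.π _) (cokernel.condition _))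
    { exact := ShortComplex.exact_cokernel _ } (injective_XFil_step I hinj hs n p)) (hinj top n)).2

include hs hinj in
lemma injective_XFil_gr (n : ℤ) {p p' : ℤ} (h : p ≤ p') :
    Injective (cokernel (((filCx I).XFil n).stepLE h)) :=
  (injective_of_splitting (splittingOfInjective
    (T := ShortComplex.mk (((filCx I).XFil n).stepLE h) (cokernel.π _) (cokernel.condition _))
    { exact := ShortComplex.exact_cokernel _ } (injective_XFil_step I hinj hs n p'))
    (injective_XFil_step I hinj hs n p)).2

include hs hI hinj in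
lemma isKInjective_gr {p p' : ℤ} (h : p ≤ p') :
    CochainComplex.IsKInjective (cokernel ((filCx I).stepLE h)) := by
  let T : ShortComplex (CochainComplex A ℤ) :=
    ShortComplex.mk ((filCx I).stepLE h) (cokernel.π _) (cokernel.condition _)
  have hT : T.ShortExact := { exact := ShortComplex.exact_cokernel _ }
  haveI : T.X₁.IsKInjective := isKInjective_step I hI hinj hs p'
  haveI : T.X₂.IsKInjective := isKInjective_step I hI hinj hs p
  exact isKInjective_X₃ (S := T) fun n =>
    splittingOfInjective (hT.map_of_exact (eval A (ComplexShape.up ℤ) n))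
      (injective_step I hinj hs n p')

end

/-- **Filtered K-injective embeddings.** -/
theorem exists_embedding (K : SpSeq.FilCx A) :
    ∃ (J : SpSeq.FilCx A) (j : K ⟶ J),
      (∀ n p : ℤ, Injective (J.obj.X n) ∧ Injective ((J.XFil n).step p) ∧ Injective ((J.XFil n).quot p) ∧
        ∀ (p' : ℤ) (h : p ≤ p'), Injective (cokernel ((J.XFil n).stepLE h))) ∧
      (CochainComplex.IsKInjective J.obj ∧ ∀ p : ℤ, CochainComplex.IsKInjective (J.step p) ∧
        CochainComplex.IsKInjective (J.quot p) ∧
        ∀ (p' : ℤ) (h : p ≤ p'), CochainComplex.IsKInjective (cokernel (J.stepLE h))) ∧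
      QuasiIso j.hom ∧
      (∀ p : ℤ, ∃ jp : K.step p ⟶ J.step p, jp ≫ (J.fil p).arrow = (K.fil p).arrow ≫ j.hom ∧ QuasiIso jp ∧
        (∀ (p' : ℤ) (h : p ≤ p'), ∃ (jp' : K.step p' ⟶ J.step p') (jg : cokernel (K.stepLE h) ⟶ cokernel (J.stepLE h)),
          jp' ≫ (J.fil p').arrow = (K.fil p').arrow ≫ j.hom ∧ jp' ≫ J.stepLE h = K.stepLE h ≫ jp ∧
          cokernel.π (K.stepLE h) ≫ jg = jp ≫ cokernel.π (J.stepLE h) ∧ QuasiIso jg)) ∧
      (∀ p : ℤ, ∃ jq : K.quot p ⟶ J.quot p,
        cokernel.π (K.fil p).arrow ≫ jq = j.hom ≫ cokernel.π (J.fil p).arrow ∧ QuasiIso jq) := by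
  obtain ⟨I, φ, hφ, hI, hinj, hs⟩ := exists_diagram (quotDiagram K)
  haveI : IsIso (cokernel.π (filTop K ⊤).arrow) := by
    have h0 : (filTop K ⊤).arrow = 0 := Subobject.bot_arrow
    have hf := cokernel.π_desc (filTop K ⊤).arrow (𝟙 K.obj) (by rw [h0, zero_comp])
    haveI : Mono (cokernel.π (filTop K ⊤).arrow) := mono_of_mono_fac hf
    exact isIso_of_mono_of_epi _
  let jh : K.obj ⟶ (filCx I).obj :=
    cokernel.π (filTop K ⊤).arrow ≫ evHom (quotDiagram K) φ top
  haveI : QuasiIso jh := by
    haveI := hφ top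
    exact quasiIso_comp (cokernel.π (filTop K ⊤).arrow) (evHom (quotDiagram K) φ top)
  have hjπ : ∀ p : ℤ, jh ≫ π I p = cokernel.π (K.fil p).arrow ≫ evHom (quotDiagram K) φ (vert p) :=
    fun p => by
      dsimp only [jh, π]
      rw [Category.assoc, ← evHom_naturality, ← Category.assoc]
      congr 1
      exact cokernel.π_desc _ _ _
  have hex : ∀ p : ℤ, ∃ jp : K.step p ⟶ (filCx I).step p,
      jp ≫ ((filCx I).fil p).arrow = (K.fil p).arrow ≫ jh := fun p => by
    haveI := (shortExact_seq I hs p).mono_f
    have h0 : ((K.fil p).arrow ≫ jh) ≫ π I p = 0 := by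
      rw [Category.assoc, hjπ p, cokernel.condition_assoc, zero_comp]
    exact ⟨(shortExact_seq I hs p).exact.lift _ h0, (shortExact_seq I hs p).exact.lift_f _ h0⟩
  choose jp hjp using hex
  let j : K ⟶ filCx I := ⟨jh, fun p => by
    rw [Subobject.pullback_obj]
    exact Subobject.le_mk_of_comm (pullback.lift (jp p) (K.fil p).arrow (hjp p))
      (pullback.lift_snd _ _ _)⟩
  let TK : ∀ p : ℤ, ShortComplex (CochainComplex A ℤ) := fun p =>
    ShortComplex.mk (K.fil p).arrow (cokernel.π _) (cokernel.condition _)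
  have hTK : ∀ p, (TK p).ShortExact := fun p => { exact := ShortComplex.exact_cokernel _ }
  have hqjp : ∀ p, QuasiIso (jp p) := fun p => by
    let m : TK p ⟶ seq I p :=
      ⟨jp p, jh, evHom (quotDiagram K) φ (vert p), hjp p, hjπ p⟩
    exact quasiIso_τ₁ m (hTK p) (shortExact_seq I hs p) ‹QuasiIso jh› (hφ (vert p))
  refine ⟨filCx I, j, fun n p => ⟨hinj top n, injective_XFil_step I hinj hs n p,
      injective_XFil_quot I hinj hs n p, fun p' h => injective_XFil_gr I hinj hs n h⟩,
    ⟨hI top, fun p => ⟨isKInjective_step I hI hinj hs p, isKInjective_quot I hI hs p,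
      fun p' h => isKInjective_gr I hI hinj hs h⟩⟩, ‹QuasiIso jh›,
    fun p => ⟨jp p, hjp p, hqjp p, fun p' h => ?_⟩, fun p => ?_⟩
  · have hc : jp p' ≫ (filCx I).stepLE h = K.stepLE h ≫ jp p := by
      rw [← cancel_mono ((filCx I).fil p).arrow, Category.assoc, Category.assoc, hjp p,
        Subobject.ofLE_arrow, hjp p', Subobject.ofLE_arrow_assoc]
    refine ⟨jp p', cokernel.map _ _ (jp p') (jp p) hc.symm, hjp p', hc, cokernel.π_desc _ _ _, ?_⟩
    let S₁ : ShortComplex (CochainComplex A ℤ) :=
      ShortComplex.mk (K.stepLE h) (cokernel.π _) (cokernel.condition _)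
    let S₂ : ShortComplex (CochainComplex A ℤ) :=
      ShortComplex.mk ((filCx I).stepLE h) (cokernel.π _) (cokernel.condition _)
    let m : S₁ ⟶ S₂ :=
      ⟨jp p', jp p, cokernel.map _ _ (jp p') (jp p) hc.symm, hc, (cokernel.π_desc _ _ _).symm⟩
    exact HomologicalComplex.HomologySequence.quasiIso_τ₃ m
      { exact := ShortComplex.exact_cokernel _ } { exact := ShortComplex.exact_cokernel _ }
      (hqjp p') (hqjp p)
  · obtain ⟨e, he⟩ := exists_quotIso I hs p
    refine ⟨evHom (quotDiagram K) φ (vert p) ≫ e.inv, ?_, ?_⟩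
    · calc cokernel.π (K.fil p).arrow ≫ evHom (quotDiagram K) φ (vert p) ≫ e.inv
          = (cokernel.π (K.fil p).arrow ≫ evHom (quotDiagram K) φ (vert p)) ≫ e.inv :=
            (Category.assoc _ _ _).symm
        _ = (jh ≫ π I p) ≫ e.inv := congrArg (· ≫ e.inv) (hjπ p).symm
        _ = jh ≫ π I p ≫ e.inv := Category.assoc _ _ _
        _ = jh ≫ cokernel.π ((filCx I).fil p).arrow :=
            congrArg (jh ≫ ·) ((Iso.eq_comp_inv e).2 he).symm
    · haveI := hφ (vert p)
      infer_instance

end GrothLib.FilKInj19
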